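import Mathlib
import Cfsg.Agent.H1.CoprimeAction

/-!
Minimal covers of a perfect group: the kernel is nilpotent, and elements of prime power order
together with parts of their centralisers lift.
-/

set_option autoImplicit false
set_option linter.unusedSectionVars false

namespace H63.AltCentral

variable {H A : Type*} [Group H] [Finite H] [Group A]

theorem ker_le_frattini (f : H →* A) (hsurj : Function.Surjective f)
    (hmin : ∀ M : Subgroup H, M.map f = ⊤ → M = ⊤) : f.ker ≤ frattini H := by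
  refine le_iInf₂ fun M hM => ?_
  by_contra hle
  have htop : M ⊔ f.ker = ⊤ := hM.2 _ (lt_of_le_of_ne le_sup_left fun he =>
    hle (he ▸ le_sup_right))
  refine hM.1 (hmin M ?_)
  have : (M ⊔ f.ker).map f = ⊤ := by rw [htop, Subgroup.map_top_of_surjective f hsurj]
  rw [Subgroup.map_sup, Subgroup.map_eq_bot_iff f.ker |>.mpr le_rfl, sup_bot_eq] at this
  exact this

theorem ker_nilpotent (f : H →* A) (hsurj : Function.Surjective f)
    (hmin : ∀ M : Subgroup H, M.map f = ⊤ → M = ⊤) : Group.IsNilpotent f.ker := by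
  haveI := frattini_nilpotent (G := H)
  exact Group.nilpotent_of_mulEquiv
    (Subgroup.subgroupOfEquivOfLe (ker_le_frattini f hsurj hmin))

theorem commutator_eq_top (f : H →* A) (hsurj : Function.Surjective f)
    (hmin : ∀ M : Subgroup H, M.map f = ⊤ → M = ⊤) (hA : commutator A = ⊤) :
    commutator H = ⊤ := by
  refine hmin _ ?_
  rw [commutator_def, Subgroup.map_commutator, Subgroup.map_top_of_surjective f hsurj,
    ← commutator_def, hA]

theorem not_isSolvable_of_map (f : H →* A) {L : Subgroup H} {B : Subgroup A}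
    (hLB : L.map f = B) (hB : ¬ Group.IsSolvable B) : ¬ Group.IsSolvable L := by
  subst hLB
  intro h
  exact hB (solvable_of_surjective (f.subgroupMap_surjective L))

/-- If an element is centralised by a nonsolvable group modulo the centre, then its centralizer
is nonsolvable. -/
theorem not_isSolvable_centralizer {L : Subgroup H} (hL : ¬ Group.IsSolvable L) {w : H}
    (h : ∀ l ∈ L, l * w * l⁻¹ * w⁻¹ ∈ Subgroup.center H) :
    ¬ Group.IsSolvable (Subgroup.centralizer ({w} : Set H)) := by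
  let c : L →* Subgroup.center H :=
    { toFun := fun l => ⟨(l : H) * w * (l : H)⁻¹ * w⁻¹, h l l.2⟩
      map_one' := Subtype.ext (by simp)
      map_mul' := fun a b => by
        apply Subtype.ext
        have hz := Subgroup.mem_center_iff.mp (h b b.2)
        show (a : H) * b * w * ((a : H) * b)⁻¹ * w⁻¹ =
          (a : H) * w * (a : H)⁻¹ * w⁻¹ * ((b : H) * w * (b : H)⁻¹ * w⁻¹)
        set z := (b : H) * w * (b : H)⁻¹ * w⁻¹ with hzdef
        calc (a : H) * b * w * ((a : H) * b)⁻¹ * w⁻¹ = (a : H) * z * (w * (a : H)⁻¹ * w⁻¹) := by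
              rw [hzdef]; group
          _ = z * (a : H) * (w * (a : H)⁻¹ * w⁻¹) := by rw [hz a]
          _ = z * ((a : H) * w * (a : H)⁻¹ * w⁻¹) := by group
          _ = ((a : H) * w * (a : H)⁻¹ * w⁻¹) * z := (hz _).symm }
  intro hs
  apply hL
  have hle : (commutator L).map L.subtype ≤ Subgroup.centralizer ({w} : Set H) := by
    rintro _ ⟨l, hl, rfl⟩
    have h1 : c l = 1 := by
      have hker : commutator L ≤ c.ker := by
        rw [commutator_def, Subgroup.commutator_le]
        intro a _ b _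
        rw [MonoidHom.mem_ker, map_commutatorElement, commutatorElement_eq_one_iff_mul_comm]
        exact Subtype.ext ((Subgroup.mem_center_iff.mp (c b).2) (c a : H))
      exact hker hl
    have h2 : (l : H) * w * (l : H)⁻¹ * w⁻¹ = 1 := congrArg Subtype.val h1
    rw [Subgroup.mem_centralizer_singleton_iff]
    calc (l : H) * w = ((l : H) * w * (l : H)⁻¹ * w⁻¹) * w * (l : H) := by group
      _ = w * (l : H) := by rw [h2, one_mul]
  have h1 := H1.isSolvable_mono hs hle
  haveI : Group.IsSolvable (commutator L) :=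
    haveI := h1
    solvable_of_surjective (f := ((Subgroup.equivMapOfInjective (commutator L) L.subtype
      L.subtype_injective).symm).toMonoidHom)
      ((Subgroup.equivMapOfInjective (commutator L) L.subtype
        L.subtype_injective).symm).surjective
  exact solvable_of_ker_le_range (commutator L).subtype (Abelianization.of (G := L))
    (by rw [Abelianization.ker_of, Subgroup.range_subtype])

variable (p : ℕ) [Fact p.Prime]

/-- Lifting an element of `p`-power order and a group centralising it. -/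
theorem exists_lift (f : H →* A) (hsurj : Function.Surjective f) {xb : A} {k : ℕ}
    (hxb : orderOf xb = p ^ k) {B : Subgroup A} (hxB : xb ∈ B)
    (hB : ∀ b ∈ B, Commute b xb) :
    ∃ (x : H) (L R : Subgroup H), f x = xb ∧ (∃ j, orderOf x = p ^ j) ∧ x ∈ L ∧
      L.map f = B ∧ R ≤ f.ker ∧ IsPGroup p R ∧ R ≤ L ∧ L ≤ Subgroup.normalizer (R : Set H) ∧
      (∀ l ∈ L, x⁻¹ * (l * x * l⁻¹) ∈ R) ∧
      (∀ r ∈ R, ∃ j, orderOf (x * r) = p ^ j) ∧
      (∀ q ∈ L, q ∈ f.ker → (∃ j, orderOf q = p ^ j) → q ∈ R) := by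
  classical
  set M := (Subgroup.zpowers xb).comap f with hMdef
  obtain ⟨y, hy⟩ := hsurj xb
  -- a `p`-element lift
  obtain ⟨e, m, hm, hord⟩ :=
    Nat.exists_eq_pow_mul_and_not_dvd (orderOf_pos y).ne' p (Fact.out : p.Prime).ne_one
  have hcop : Nat.Coprime m (p ^ k) :=
    Nat.Coprime.pow_right _ ((Fact.out : p.Prime).coprime_iff_not_dvd.mpr hm).symm
  obtain ⟨s, hs⟩ := exists_pow_eq_self_of_coprime (n := m) (x := xb) (hxb ▸ hcop)
  have hxM0 : f ((y ^ m) ^ s) = xb := by rw [map_pow, map_pow, hy, hs]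
  set x0 := (y ^ m) ^ s with hx0
  have hx0p : IsPGroup p (Subgroup.zpowers x0) := by
    intro z
    obtain ⟨i, hi⟩ := Subgroup.mem_zpowers_iff.mp z.2
    refine ⟨e, Subtype.ext ?_⟩
    show (z : H) ^ p ^ e = 1
    have h1 : x0 ^ p ^ e = 1 := by
      rw [hx0, ← pow_mul, ← pow_mul, show m * (s * p ^ e) = orderOf y * s by rw [hord]; ring,
        pow_mul, pow_orderOf_eq_one, one_pow]
    rw [← hi, ← zpow_natCast, ← zpow_mul, mul_comm, zpow_mul, zpow_natCast, h1, one_zpow]
  have hle : Subgroup.zpowers x0 ≤ M :=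
    Subgroup.zpowers_le.mpr (by show f x0 ∈ Subgroup.zpowers xb; rw [hxM0]; exact Subgroup.mem_zpowers _)
  obtain ⟨S0, hS0⟩ := (hx0p.comap_subtype (K := M)).exists_le_sylow
  set S := (S0 : Subgroup M).map M.subtype with hSdef
  have hxS : x0 ∈ S := ⟨⟨x0, hle (Subgroup.mem_zpowers _)⟩,
    hS0 (show x0 ∈ Subgroup.zpowers x0 from Subgroup.mem_zpowers _), rfl⟩
  have hSM : S ≤ M := Subgroup.map_subtype_le _
  have hSp : IsPGroup p S := S0.2.map _
  -- the normaliser part
  set Bt := B.comap f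
  have hMB : M ≤ Bt := Subgroup.comap_mono (Subgroup.zpowers_le.mpr hxB)
  set L := Bt ⊓ Subgroup.normalizer (S : Set H) with hLdef
  set R := S ⊓ f.ker with hRdef
  have hxL : x0 ∈ L := ⟨hMB (hSM hxS), Subgroup.le_normalizer hxS⟩
  have hBn : Bt ≤ Subgroup.normalizer (M : Set H) := by
    intro b hb
    rw [Subgroup.mem_normalizer_iff]
    intro z
    show f z ∈ Subgroup.zpowers xb ↔ f (b * z * b⁻¹) ∈ Subgroup.zpowers xb
    have hcomm : ∀ t ∈ Subgroup.zpowers xb, f b * t * (f b)⁻¹ = t := by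
      intro t ht
      obtain ⟨i, rfl⟩ := Subgroup.mem_zpowers_iff.mp ht
      rw [((hB _ hb).zpow_right i).eq, mul_inv_cancel_right]
    rw [map_mul, map_mul, map_inv]
    refine ⟨fun h => by rw [hcomm _ h]; exact h, fun h => ?_⟩
    have h1 := hcomm _ h
    have h2 : f b * f z * (f b)⁻¹ = f z := (MulAut.conj (f b)).injective h1
    rwa [h2] at h
  have hLmap : L.map f = B := by
    refine le_antisymm (Subgroup.map_le_iff_le_comap.mpr inf_le_left) fun b hb => ?_
    obtain ⟨g, hg⟩ := hsurj b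
    have hgB : g ∈ Bt := by show f g ∈ B; rw [hg]; exact hb
    have hgM := hBn hgB
    let e : MulAut M :=
      { toFun := fun z => ⟨g * z * g⁻¹, ((Subgroup.mem_normalizer_iff.mp hgM) z).mp z.2⟩
        invFun := fun z => ⟨g⁻¹ * z * g, by
          have := ((Subgroup.mem_normalizer_iff.mp hgM) (g⁻¹ * z * g)).mpr
          apply this
          simp [mul_assoc]⟩
        left_inv := fun z => Subtype.ext (by simp [mul_assoc])
        right_inv := fun z => Subtype.ext (by simp [mul_assoc])
        map_mul' := fun z w => Subtype.ext (by simp [mul_assoc]) }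
    obtain ⟨c, hc⟩ := MulAction.exists_smul_eq M (e • S0) S0
    set l := (c : H) * g with hl
    have hlB : l ∈ Bt := Bt.mul_mem (hMB c.2) hgB
    have hlS : l ∈ Subgroup.normalizer (S : Set H) := by
      have hto : ∀ z ∈ S, l * z * l⁻¹ ∈ S := by
        rintro _ ⟨z, hz, rfl⟩
        refine ⟨c * e z * c⁻¹, ?_, by simp [hl, e, mul_assoc]⟩
        have h1 : e z ∈ ((e • S0 : Sylow p M) : Subgroup M) := ⟨z, hz, rfl⟩
        have h2 : c * e z * c⁻¹ ∈ ((c • (e • S0) : Sylow p M) : Subgroup M) := ⟨e z, h1, rfl⟩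
        rwa [hc] at h2
      refine Subgroup.mem_normalizer_fintype ?_
      intro z hz
      exact hto z hz
    obtain ⟨i, hi⟩ := Subgroup.mem_zpowers_iff.mp (show f c ∈ Subgroup.zpowers xb from c.2)
    refine ⟨(x0 ^ i)⁻¹ * l, L.mul_mem (L.inv_mem (L.zpow_mem hxL i)) ⟨hlB, hlS⟩, ?_⟩
    rw [map_mul, map_inv, map_zpow, hxM0, hi, hl, map_mul, inv_mul_cancel_left, hg]
  have hRp : IsPGroup p R := hSp.to_le inf_le_left
  have hRL : R ≤ L := fun r hr => ⟨hMB (hSM hr.1), Subgroup.le_normalizer hr.1⟩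
  have hLR : L ≤ Subgroup.normalizer (R : Set H) := by
    intro l hl
    refine Subgroup.mem_normalizer_fintype ?_
    intro r hr
    refine ⟨((Subgroup.mem_normalizer_iff.mp hl.2) r).mp hr.1, ?_⟩
    exact (MonoidHom.normal_ker f).conj_mem r hr.2 l
  have hpel : ∀ z ∈ S, ∃ j, orderOf z = p ^ j := by
    intro z hz
    obtain ⟨j, hj⟩ := IsPGroup.iff_orderOf.mp hSp ⟨z, hz⟩
    exact ⟨j, by rwa [Subgroup.orderOf_mk] at hj⟩
  refine ⟨x0, L, R, hxM0, hpel _ hxS, hxL, hLmap, inf_le_right, hRp, hRL, hLR, ?_, ?_, ?_⟩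
  · intro l hl
    refine ⟨S.mul_mem (S.inv_mem hxS) (((Subgroup.mem_normalizer_iff.mp hl.2) x0).mp hxS), ?_⟩
    have hlB : f l ∈ B := hl.1
    show f (x0⁻¹ * (l * x0 * l⁻¹)) = 1
    rw [map_mul, map_inv, map_mul, map_mul, map_inv, hxM0, (hB _ hlB).eq, mul_inv_cancel_right,
      inv_mul_cancel]
  · exact fun r hr => hpel _ (S.mul_mem hxS hr.1)
  · rintro q ⟨-, hqS⟩ hq ⟨j, hj⟩
    refine ⟨?_, hq⟩
    have hqM : q ∈ M := by
      show f q ∈ Subgroup.zpowers xb
      rw [show f q = 1 from hq]; exact one_mem _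
    set Q := Subgroup.zpowers q
    have hQp : IsPGroup p Q := IsPGroup.of_card (by rw [Nat.card_zpowers, hj])
    have hQn : Q ≤ Subgroup.normalizer (S : Set H) := Subgroup.zpowers_le.mpr hqS
    have hsup : IsPGroup p (Q ⊔ S : Subgroup H) := IsPGroup.to_sup_of_normal_right' hQp hSp hQn
    have hcomap : (S0 : Subgroup M) ≤ (Q ⊔ S).subgroupOf M := fun z hz =>
      Subgroup.mem_subgroupOf.mpr ((le_sup_right : S ≤ Q ⊔ S) ⟨z, hz, rfl⟩)
    have heq := S0.3 (hsup.comap_subtype (K := M)) hcomap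
    have : (⟨q, hqM⟩ : M) ∈ (S0 : Subgroup M) := by
      rw [← heq]
      exact Subgroup.mem_subgroupOf.mpr ((le_sup_left : Q ≤ Q ⊔ S) (Subgroup.mem_zpowers q))
    exact ⟨_, this, rfl⟩

end H63.AltCentral
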