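import Cfsg.Agent.H63.AltCentral.Top
import Cfsg.Agent.H63.ModCert.Two
import Cfsg.Agent.H63.ModCert.Five

/-!
A group whose noncentral `p`-elements have solvable centralisers involves no alternating group
of large degree.
-/

set_option autoImplicit false
set_option linter.unusedSectionVars false
set_option linter.style.haveILetI false

universe u

namespace H63.AltCentral

open Equiv

/-- permutations of `α` as permutations of `β` along an embedding -/
noncomputable def permEmb {α β : Type*} (ι : α ↪ β) : Perm α →* Perm β := Perm.viaEmbeddingHom ι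

theorem sign_permEmb {α β : Type*} [Fintype α] [DecidableEq α] [Fintype β] [DecidableEq β]
    (ι : α ↪ β) (σ : Perm α) : Perm.sign (permEmb ι σ) = Perm.sign σ := by
  classical
  rw [permEmb, Perm.viaEmbeddingHom_apply]
  unfold Perm.viaEmbedding
  convert Perm.sign_extendDomain σ (Equiv.ofInjective ι.1 ι.2)

/-- the same for alternating groups -/
noncomputable def altEmb {α β : Type*} [Fintype α] [DecidableEq α] [Fintype β] [DecidableEq β]
    (ι : α ↪ β) : alternatingGroup α →* alternatingGroup β :=
  ((permEmb ι).comp (alternatingGroup α).subtype).codRestrict (alternatingGroup β) fun σ => by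
    rw [Perm.mem_alternatingGroup]
    show Perm.sign (permEmb ι (σ : Perm α)) = 1
    rw [sign_permEmb]
    exact Perm.mem_alternatingGroup.mp σ.2

theorem altEmb_injective {α β : Type*} [Fintype α] [DecidableEq α] [Fintype β] [DecidableEq β]
    (ι : α ↪ β) : Function.Injective (altEmb ι) := by
  intro a b h
  apply Subtype.ext
  exact Perm.viaEmbeddingHom_injective ι (congrArg Subtype.val h)

theorem altEmb_commute {α β γ : Type*} [Fintype α] [DecidableEq α] [Fintype β] [DecidableEq β]
    [Fintype γ] [DecidableEq γ] (ι : α ↪ γ) (κ : β ↪ γ) (h : ∀ a b, ι a ≠ κ b)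
    (x : alternatingGroup α) (y : alternatingGroup β) : Commute (altEmb ι x) (altEmb κ y) := by
  apply Subtype.ext
  show permEmb ι (x : Perm α) * permEmb κ (y : Perm β) = permEmb κ (y : Perm β) * permEmb ι (x : Perm α)
  refine (Perm.Disjoint.commute ?_).eq
  intro c
  by_cases hc : c ∈ Set.range ι
  · obtain ⟨a, rfl⟩ := hc
    right
    exact Perm.viaEmbedding_apply_of_notMem _ _ _ (by rintro ⟨b, hb⟩; exact h a b hb.symm)
  · left
    exact Perm.viaEmbedding_apply_of_notMem _ _ _ hc

theorem not_isSolvable_alt {α : Type*} [Fintype α] [DecidableEq α] (h5 : 5 ≤ Nat.card α) :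
    ¬ Group.IsSolvable (alternatingGroup α) := by
  intro hs
  haveI := alternatingGroup.isSimpleGroup h5
  exact (IsSolvable.commutator_lt_top_of_nontrivial (alternatingGroup α)).ne
    (commutator_alternatingGroup_eq_top h5)

theorem center_alt_eq_bot {α : Type*} [Fintype α] [DecidableEq α] (h5 : 5 ≤ Nat.card α) :
    Subgroup.center (alternatingGroup α) = ⊥ := by
  haveI := alternatingGroup.isSimpleGroup h5
  refine (Subgroup.Normal.eq_bot_or_eq_top inferInstance).resolve_right fun htop => ?_
  refine not_isSolvable_alt h5 ?_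
  exact Group.isSolvable_of_comm fun a b =>
    (Subgroup.mem_center_iff.mp (htop ▸ Subgroup.mem_top b) a)

section cover

variable {H : Type u} [Group H] [Finite H] (p : ℕ) [Fact p.Prime] (k : ℕ)

/-- A minimal cover of `A_{k+5}` has a noncentral `p`-element with nonsolvable centraliser. -/
theorem false_of_cover (f : H →* alternatingGroup (Fin (k + 5)))
    (hsurj : Function.Surjective f) (hmin : ∀ M : Subgroup H, M.map f = ⊤ → M = ⊤)
    (σ : alternatingGroup (Fin k)) (hσ : orderOf σ = p) (hk : k + 5 ≥ 5)
    (hfact : 7 ≤ p ∨ ModuleFact.{u} (alternatingGroup (Fin (k + 5))) p)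
    (hcent : ∀ x : H, x ∉ Subgroup.center H → (∃ j, orderOf x = p ^ j) →
      Group.IsSolvable (Subgroup.centralizer ({x} : Set H))) : False := by
  have h5 : 5 ≤ Nat.card (Fin (k + 5)) := by rw [Nat.card_fin]; omega
  have hnil := ker_nilpotent f hsurj hmin
  set ι : Fin k ↪ Fin (k + 5) := Fin.castAddEmb 5
  set κ : Fin 5 ↪ Fin (k + 5) := Fin.natAddEmb k
  have hdis : ∀ a b, ι a ≠ κ b := by
    intro a b h
    have := congrArg Fin.val h
    have ha := a.2
    simp [ι, κ] at this
    omega
  set xb := altEmb ι σ with hxb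
  set B0 := (altEmb κ).range with hB0
  set B := B0 ⊔ Subgroup.zpowers xb with hB
  have hord : orderOf xb = p ^ 1 := by
    rw [pow_one, hxb, orderOf_injective _ (altEmb_injective ι), hσ]
  have hBcomm : ∀ b ∈ B, Commute b xb := by
    intro b hb
    have : B ≤ Subgroup.centralizer ({xb} : Set _) := by
      refine sup_le ?_ ?_
      · rintro _ ⟨y, rfl⟩
        rw [Subgroup.mem_centralizer_singleton_iff]
        exact (altEmb_commute ι κ hdis σ y).symm.eq
      · exact Subgroup.zpowers_le.mpr (Subgroup.mem_centralizer_singleton_iff.mpr rfl)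
    exact Subgroup.mem_centralizer_singleton_iff.mp (this hb)
  have hB0ns : ¬ Group.IsSolvable B0 := fun hs => not_isSolvable_alt (α := Fin 5) (by simp)
    (solvable_of_solvable_injective (f := (altEmb κ).rangeRestrict)
      fun a b h => altEmb_injective κ (congrArg Subtype.val h))
  obtain ⟨x, L, R, hfx, hxp, hxL, hLB, hRk, hRp, hRL, hLR, hcomm, hxR, hker⟩ :=
    exists_lift p f hsurj hord ((le_sup_right : _ ≤ B) (Subgroup.mem_zpowers xb)) hBcomm
  have hne : xb ≠ 1 := fun he => by
    rw [he, orderOf_one, pow_one] at hord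
    exact (Fact.out : p.Prime).ne_one hord.symm
  have hxc : ∀ y : H, f y = xb → y ∉ Subgroup.center H := by
    intro y hy hyc
    have : f y ∈ Subgroup.center (alternatingGroup (Fin (k + 5))) := by
      rw [Subgroup.mem_center_iff]
      intro g
      obtain ⟨g, rfl⟩ := hsurj g
      rw [← map_mul, ← map_mul, Subgroup.mem_center_iff.mp hyc g]
    rw [center_alt_eq_bot h5, Subgroup.mem_bot, hy] at this
    exact hne this
  rcases hfact with hp7 | hfact
  · -- coprime action
    set L1 := L ⊓ B0.comap f with hL1
    have hL1B : L1.map f = B0 := by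
      refine le_antisymm (Subgroup.map_le_iff_le_comap.mpr inf_le_right) fun b hb => ?_
      have hbB : b ∈ L.map f := by rw [hLB]; exact (le_sup_left : B0 ≤ B) hb
      obtain ⟨l, hl, rfl⟩ := hbB
      exact ⟨l, ⟨hl, hb⟩, rfl⟩
    have hRL1 : R ≤ L1 := fun r hr => ⟨hRL hr, by
      show f r ∈ B0
      rw [show f r = 1 from hRk hr]
      exact one_mem _⟩
    haveI : (R.subgroupOf L1).Normal :=
      Subgroup.normal_subgroupOf_iff_le_normalizer hRL1 |>.mpr (inf_le_left.trans hLR)
    obtain ⟨P⟩ : Nonempty (Sylow p L1) := inferInstance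
    have hPR : (P : Subgroup L1) ≤ R.subgroupOf L1 := by
      intro q hq
      obtain ⟨j, hj⟩ := IsPGroup.iff_orderOf.mp P.2 ⟨q, hq⟩
      rw [Subgroup.orderOf_mk, ← Subgroup.orderOf_coe] at hj
      refine Subgroup.mem_subgroupOf.mpr (hker _ q.2.1 ?_ ⟨j, hj⟩)
      obtain ⟨y, hy⟩ := (show f (q : H) ∈ B0 from q.2.2)
      have h1 : orderOf y ∣ p ^ j := by
        rw [← orderOf_injective _ (altEmb_injective κ) y, hy, ← hj]
        exact orderOf_map_dvd f _
      have h2 : orderOf y ∣ 60 := by
        have h60 : Nat.card (alternatingGroup (Fin 5)) = 60 := by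
          rw [nat_card_alternatingGroup, Nat.card_fin]
          rfl
        rw [← h60]
        exact orderOf_dvd_natCard y
      have h3 : Nat.Coprime (p ^ j) 60 := Nat.Coprime.pow_left _
        ((Fact.out : p.Prime).coprime_iff_not_dvd.mpr fun hd => by
          have hp' : p.Prime := Fact.out
          rcases (Nat.Prime.dvd_mul hp').mp (show p ∣ 4 * 15 from hd) with h4 | h15
          · have := Nat.le_of_dvd (by norm_num) h4; omega
          · rcases (Nat.Prime.dvd_mul hp').mp (show p ∣ 3 * 5 from h15) with h3 | h5'
            · have := Nat.le_of_dvd (by norm_num) h3; omega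
            · have := Nat.le_of_dvd (by norm_num) h5'; omega)
      rw [MonoidHom.mem_ker, ← hy, orderOf_eq_one_iff.mp (Nat.eq_one_of_dvd_coprimes h3 h1 h2),
        map_one]
    have hcop : Nat.Coprime (Nat.card (R.subgroupOf L1)) (R.subgroupOf L1).index := by
      obtain ⟨e, he⟩ := IsPGroup.iff_card.mp
        (hRp.comap_subtype (K := L1) : IsPGroup p (R.subgroupOf L1))
      have he' : Nat.card (R.subgroupOf L1) = p ^ e := he
      rw [he']
      refine Nat.Coprime.pow_left _ ((Fact.out : p.Prime).coprime_iff_not_dvd.mpr fun hd => ?_)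
      exact P.not_dvd_index (hd.trans (Subgroup.index_dvd_of_le hPR))
    obtain ⟨C, hC⟩ := Subgroup.exists_right_complement'_of_coprime hcop
    set L0 := C.map L1.subtype with hL0
    have hL0L : L0 ≤ L := (Subgroup.map_subtype_le C).trans inf_le_left
    have hcop' : (Nat.card R).Coprime (Nat.card L0) := by
      rw [hL0, Subgroup.card_map_of_injective L1.subtype_injective, ← hC.symm.index_eq_card,
        ← Nat.card_congr (Subgroup.subgroupOfEquivOfLe hRL1).toEquiv]
      exact hcop
    have hRs : Group.IsSolvable R := by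
      haveI := hRp.isNilpotent
      infer_instance
    obtain ⟨c, hc, hcR⟩ := H1.exists_fixed_mem_coset (A := L0) (N := R) (hL0L.trans hLR) hcop'
      (Or.inl hRs) (k := x) fun a ha => hcomm a (hL0L ha)
    have hfc : f c = xb := by
      have h1 : f (x⁻¹ * c) = 1 := hRk hcR
      rw [map_mul, map_inv, hfx] at h1
      exact (inv_mul_eq_one.mp h1).symm
    have hcp : ∃ j, orderOf c = p ^ j := by
      have := hxR _ hcR
      rwa [mul_inv_cancel_left] at this
    refine not_isSolvable_of_map f (L := L0) ?_ hB0ns
      (H1.isSolvable_mono (hcent c (hxc c hfc) hcp) fun a ha =>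
        Subgroup.mem_centralizer_singleton_iff.mpr (Subgroup.mem_centralizer_iff.mp hc a ha))
    refine le_antisymm ?_ fun b hb => ?_
    · rintro _ ⟨a, ha, rfl⟩
      exact (Subgroup.map_subtype_le C ha).2
    · have hb' : b ∈ L1.map f := by rw [hL1B]; exact hb
      obtain ⟨l, hl, rfl⟩ := hb'
      have hl' : (⟨l, hl⟩ : L1) ∈ R.subgroupOf L1 ⊔ C := by
        rw [hC.sup_eq_top]; trivial
      obtain ⟨r, hr, a, ha, hra⟩ := Subgroup.mem_sup_of_normal_left.mp hl'
      have hval := congrArg Subtype.val hra
      simp only [Subgroup.coe_mul] at hval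
      refine ⟨a, ⟨a, ha, rfl⟩, ?_⟩
      rw [← hval, map_mul, show f (r : H) = 1 from hRk hr, one_mul]
  · -- the top of the cover is central
    refine not_isSolvable_of_map f hLB (fun hs => hB0ns (H1.isSolvable_mono hs le_sup_left)) ?_
    by_contra hns
    refine not_isSolvable_centralizer hns (w := x) ?_ (hcent x (hxc x hfx) hxp)
    intro l hl
    have hle : R ≤ Subgroup.center H := by
      obtain ⟨P, hP⟩ := (hRp.comap_subtype (K := f.ker) :
        IsPGroup p (R.subgroupOf f.ker)).exists_le_sylow
      haveI hPn : (P : Subgroup f.ker).Normal := by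
        haveI := hnil
        have q := (Group.isNilpotent_of_finite_tfae (G := f.ker)).out 0 3
        exact q.mp hnil p inferInstance P
      haveI : (P : Subgroup f.ker).Characteristic := P.characteristic_of_normal hPn
      refine le_trans ?_ (le_center_of_moduleFact p hfact f hsurj hnil hcent
        ((P : Subgroup f.ker).map f.ker.subtype) (P.2.map _) (Subgroup.map_subtype_le _))
      intro r hr
      exact ⟨⟨r, hRk hr⟩, hP (Subgroup.mem_subgroupOf.mpr hr), rfl⟩
    have h1 := hle (hcomm l hl)
    have h2 : x * (x⁻¹ * (l * x * l⁻¹)) * x⁻¹ ∈ Subgroup.center H :=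
      (inferInstance : (Subgroup.center H).Normal).conj_mem _ h1 x
    simpa [mul_assoc] using h2

end cover

theorem moduleFact_two : ModuleFact.{u} (alternatingGroup (Fin (4 + 5))) 2 := by
  intro V _ _ _ hp hfix
  exact ModCert.eq_zero_of_noFix_nine (V := V) hp hfix

theorem moduleFact_five : ModuleFact.{u} (alternatingGroup (Fin (5 + 5))) 5 := by
  intro V _ _ _ hp hfix
  exact ModCert.eq_zero_of_noFix_ten (V := V) hp hfix

/-- The bound on the degree of an involved alternating group. -/
theorem no_involvement {G : Type u} [Group G] [Finite G] (p : ℕ) [Fact p.Prime]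
    (h : ∀ x : G, x ∉ Subgroup.center G → (∃ j : ℕ, orderOf x = p ^ j) →
      Group.IsSolvable (Subgroup.centralizer ({x} : Set G)))
    {d k : ℕ} (hd : k + 5 ≤ d) (σ : alternatingGroup (Fin k)) (hσ : orderOf σ = p)
    (hfact : 7 ≤ p ∨ ModuleFact.{u} (alternatingGroup (Fin (k + 5))) p)
    (K : Subgroup G) (g : K →* alternatingGroup (Fin d)) (hg : Function.Surjective g) : False := by
  classical
  set e := altEmb (Fin.castLEEmb hd) with he
  -- subgroups mapping onto the small alternating group
  have hex : ∃ (H : Subgroup G) (f : H →* alternatingGroup (Fin (k + 5))),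
      Function.Surjective f := by
    set K0 := e.range.comap g with hK0
    refine ⟨K0.map K.subtype, ((MonoidHom.ofInjective (altEmb_injective
      (Fin.castLEEmb hd))).symm.toMonoidHom.comp ((g.comp K0.subtype).codRestrict e.range
        fun z => z.2)).comp (K0.equivMapOfInjective K.subtype K.subtype_injective).symm.toMonoidHom,
        fun a => ?_⟩
    obtain ⟨y, hy⟩ := hg (e a)
    have hy0 : y ∈ K0 := by show g y ∈ e.range; rw [hy]; exact ⟨a, rfl⟩
    refine ⟨K0.equivMapOfInjective K.subtype K.subtype_injective ⟨y, hy0⟩, ?_⟩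
    simp only [MonoidHom.comp_apply, MulEquiv.coe_toMonoidHom, MulEquiv.symm_apply_apply]
    rw [MulEquiv.symm_apply_eq]
    exact Subtype.ext hy
  obtain ⟨H, ⟨f, hf⟩, hmin⟩ := WellFounded.has_min (wellFounded_lt (α := Subgroup G))
    {H | ∃ f : H →* alternatingGroup (Fin (k + 5)), Function.Surjective f} hex
  refine false_of_cover p k f hf ?_ σ hσ (by omega) hfact ?_
  · intro M hM
    by_contra hne
    refine hmin (M.map H.subtype)
      ⟨(f.comp M.subtype).comp (M.equivMapOfInjective H.subtype H.subtype_injective).symm.toMonoidHom,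
        fun a => ?_⟩ ?_
    · have ha : a ∈ M.map f := by rw [hM]; trivial
      obtain ⟨m, hm, rfl⟩ := ha
      refine ⟨M.equivMapOfInjective H.subtype H.subtype_injective ⟨m, hm⟩, ?_⟩
      simp
    · refine lt_of_le_of_ne (Subgroup.map_subtype_le M) fun heq => hne ?_
      refine Subgroup.map_injective H.subtype_injective ?_
      rw [heq, ← MonoidHom.range_eq_map, Subgroup.range_subtype]
  · intro x hx ⟨j, hj⟩
    have hxG : (x : G) ∉ Subgroup.center G := fun hc => hx (Subgroup.mem_center_iff.mpr fun y =>
      Subtype.ext (Subgroup.mem_center_iff.mp hc (y : G)))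
    haveI := h x hxG ⟨j, by rw [Subgroup.orderOf_coe]; exact hj⟩
    refine solvable_of_solvable_injective (f := (H.subtype.comp
      (Subgroup.centralizer ({x} : Set H)).subtype).codRestrict
        (Subgroup.centralizer ({(x : G)} : Set G)) fun z => ?_) ?_
    · rw [Subgroup.mem_centralizer_singleton_iff]
      exact congrArg Subtype.val (Subgroup.mem_centralizer_singleton_iff.mp z.2)
    · intro a b hab
      have hv := congrArg Subtype.val hab
      exact Subtype.ext (Subtype.ext hv)

end H63.AltCentral
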