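import Cfsg.Agent.H63.AltCentral.Lift

/-!
A minimal cover of a perfect group acts on a minimal noncentral normal `p`-subgroup inside its
kernel, modulo the centre, through the perfect group.
-/

set_option autoImplicit false
set_option linter.unusedSectionVars false
set_option linter.style.haveILetI false

namespace H63.AltCentral

universe u v

variable {H : Type u} {A : Type*} [Group H] [Finite H] [Group A] [Finite A] (p : ℕ) [Fact p.Prime]

/-- In a module over `A` of exponent `p`, some nonzero vector has a nonsolvable stabilizer. -/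
def ModuleFact (A : Type*) [Group A] (p : ℕ) : Prop :=
  ∀ (V : Type v) [AddCommGroup V] [Finite V] [DistribMulAction A V], (∀ u : V, p • u = 0) →
    (∀ L : Subgroup A, ¬ Group.IsSolvable L → ∀ v : V, (∀ g ∈ L, g • v = v) → v = 0) →
    ∀ u : V, u = 0

theorem le_center_of_moduleFact (hV : ModuleFact.{u} A p) (f : H →* A) (hsurj : Function.Surjective f)
    (hnil : Group.IsNilpotent f.ker)
    (hcent : ∀ x : H, x ∉ Subgroup.center H → (∃ j, orderOf x = p ^ j) →
      Group.IsSolvable (Subgroup.centralizer ({x} : Set H)))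
    (W0 : Subgroup H) [hW0n : W0.Normal] (hW0p : IsPGroup p W0) (hW0k : W0 ≤ f.ker) :
    W0 ≤ Subgroup.center H := by
  classical
  by_contra hnc
  -- a minimal one
  obtain ⟨W, ⟨hWn, hWp, hWk, hWc⟩, hWmin⟩ := WellFounded.has_min
    (wellFounded_lt (α := Subgroup H))
    {W | W.Normal ∧ IsPGroup p W ∧ W ≤ f.ker ∧ ¬ W ≤ Subgroup.center H}
    ⟨W0, hW0n, hW0p, hW0k, hnc⟩
  haveI := hWn
  set Z := Subgroup.center H with hZ
  -- commutators with the kernel are central
  have hWN : ⁅W, f.ker⁆ ≤ Z := by
    by_contra hc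
    have hle : ⁅W, f.ker⁆ ≤ W := Subgroup.commutator_le_left W f.ker
    have heq : ⁅W, f.ker⁆ = W := by
      by_contra hne
      exact hWmin ⁅W, f.ker⁆ ⟨Subgroup.commutator_normal W f.ker, hWp.to_le hle, hle.trans hWk, hc⟩
        (lt_of_le_of_ne hle hne)
    obtain ⟨c, hcl⟩ := (Subgroup.isNilpotent_iff_lowerCentralSeries f.ker).mp hnil
    have hall : ∀ i, W ≤ f.ker.lowerCentralSeries i := by
      intro i
      induction i with
      | zero => rw [Subgroup.lowerCentralSeries_zero]; exact hWk
      | succ i ih =>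
        rw [Subgroup.lowerCentralSeries_succ]
        calc W = ⁅W, f.ker⁆ := heq.symm
          _ ≤ _ := Subgroup.commutator_mono ih le_rfl
    have hbot := hall c
    rw [hcl] at hbot
    exact hWc (hbot.trans bot_le)
  have hcW : ∀ w ∈ W, ∀ n ∈ f.ker, n * w * n⁻¹ * w⁻¹ ∈ Z := by
    intro w hw n hn
    have h1 := hWN (Subgroup.commutator_mem_commutator hw hn)
    have h2 := Z.inv_mem h1
    rwa [commutatorElement_inv, commutatorElement_def] at h2
  set Zw := Z.subgroupOf W with hZw
  haveI : Zw.Normal := inferInstance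
  have hcomm : ∀ a b : W ⧸ Zw, a * b = b * a := by
    rintro ⟨a⟩ ⟨b⟩
    refine QuotientGroup.eq.mpr ?_
    rw [hZw, Subgroup.mem_subgroupOf]
    have h1 := hcW _ (W.inv_mem a.2) _ (hWk (W.inv_mem b.2))
    push_cast
    convert h1 using 1
    group
  letI : CommGroup (W ⧸ Zw) := { (inferInstance : Group (W ⧸ Zw)) with mul_comm := hcomm }
  -- exponent `p`
  let P : Subgroup H :=
    { carrier := {w | w ∈ W ∧ w ^ p ∈ Z}
      mul_mem' := by
        rintro a b ⟨ha, ha'⟩ ⟨hb, hb'⟩
        refine ⟨W.mul_mem ha hb, ?_⟩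
        have hq : (((⟨a, ha⟩ * ⟨b, hb⟩ : W) ^ p : W) : W ⧸ Zw) = 1 := by
          rw [QuotientGroup.mk_pow, QuotientGroup.mk_mul, mul_pow, ← QuotientGroup.mk_pow,
            ← QuotientGroup.mk_pow, (QuotientGroup.eq_one_iff _).mpr, one_mul,
            (QuotientGroup.eq_one_iff _).mpr]
          · rw [hZw, Subgroup.mem_subgroupOf]; exact hb'
          · rw [hZw, Subgroup.mem_subgroupOf]; exact ha'
        have := (QuotientGroup.eq_one_iff _).mp hq
        rw [hZw, Subgroup.mem_subgroupOf] at this
        simpa using this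
      one_mem' := ⟨W.one_mem, by simp⟩
      inv_mem' := by
        rintro a ⟨ha, ha'⟩
        exact ⟨W.inv_mem ha, by rw [inv_pow]; exact Z.inv_mem ha'⟩ }
  have hPn : P.Normal := ⟨fun w hw g => ⟨hWn.conj_mem w hw.1 g, by
    have hz : g * w ^ p * g⁻¹ = w ^ p := by
      rw [(Subgroup.mem_center_iff.mp hw.2) g, mul_inv_cancel_right]
    rw [conj_pow, hz]; exact hw.2⟩⟩
  have hPW : P ≤ W := fun w hw => hw.1
  have hexp : ∀ w ∈ W, w ^ p ∈ Z := by
    have hPeq : P = W := by
      by_contra hne
      have hPc : P ≤ Z := by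
        by_contra hc
        exact hWmin P ⟨hPn, hWp.to_le hPW, hPW.trans hWk, hc⟩ (lt_of_le_of_ne hPW hne)
      refine hWc fun w hw => ?_
      obtain ⟨k, hk⟩ := hWp ⟨w, hw⟩
      have hk' : w ^ p ^ k ∈ Z := by
        rw [show w ^ p ^ k = 1 from congrArg Subtype.val hk]; exact Z.one_mem
      clear hk
      induction k generalizing w with
      | zero => simpa using hk'
      | succ k ih =>
        rw [pow_succ', pow_mul] at hk'
        exact hPc ⟨hw, ih (w ^ p) (W.pow_mem hw p) hk'⟩
    intro w hw
    rw [← hPeq] at hw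
    exact hw.2
  -- the action
  let conjQ : H → (W ⧸ Zw →* W ⧸ Zw) := fun h =>
    QuotientGroup.map Zw Zw ((MulAut.conjNormal h : MulAut W).toMonoidHom) (by
      intro z hz
      rw [Subgroup.mem_comap, hZw, Subgroup.mem_subgroupOf]
      rw [hZw, Subgroup.mem_subgroupOf] at hz
      show h * (z : H) * h⁻¹ ∈ Z
      rw [(Subgroup.mem_center_iff.mp hz) h, mul_inv_cancel_right]
      exact hz)
  have hconj_mk : ∀ (h : H) (w : W), conjQ h (w : W ⧸ Zw) = ((MulAut.conjNormal h w : W) : W ⧸ Zw) :=
    fun h w => rfl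
  have hconj_mul : ∀ (g h : H) (q : W ⧸ Zw), conjQ (g * h) q = conjQ g (conjQ h q) := by
    intro g h q
    induction q using QuotientGroup.induction_on with
    | H w => rw [hconj_mk, hconj_mk, hconj_mk, map_mul]; rfl
  have hconj_ker : ∀ n ∈ f.ker, ∀ q : W ⧸ Zw, conjQ n q = q := by
    intro n hn q
    induction q using QuotientGroup.induction_on with
    | H w =>
      rw [hconj_mk, QuotientGroup.eq, hZw, Subgroup.mem_subgroupOf]
      have h1 := Z.inv_mem (hcW (w : H) w.2 n hn)
      have h2 : ((((MulAut.conjNormal n) w)⁻¹ * w : W) : H) = n * (w : H)⁻¹ * n⁻¹ * (w : H) := by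
        push_cast [MulAut.conjNormal_apply]; group
      rw [h2]
      have h3 := hcW _ (W.inv_mem w.2) n hn
      rwa [inv_inv] at h3
  have hconj_eq : ∀ g h : H, f g = f h → conjQ g = conjQ h := by
    intro g h hgh
    ext q
    calc conjQ g q = conjQ (h * (h⁻¹ * g)) q := by rw [mul_inv_cancel_left]
      _ = conjQ h (conjQ (h⁻¹ * g) q) := hconj_mul _ _ _
      _ = conjQ h q := by
        rw [hconj_ker (h⁻¹ * g) (by rw [MonoidHom.mem_ker, map_mul, map_inv, hgh, inv_mul_cancel])]
  choose sec hsec using hsurj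
  letI instSMul : SMul A (Additive (W ⧸ Zw)) :=
    ⟨fun a v => Additive.ofMul (conjQ (sec a) v.toMul)⟩
  have hsmul : ∀ (h : H) (q : W ⧸ Zw),
      f h • Additive.ofMul q = Additive.ofMul (conjQ h q) := fun h q => by
    show Additive.ofMul (conjQ (sec (f h)) q) = _
    rw [hconj_eq _ h (hsec _)]
  letI : DistribMulAction A (Additive (W ⧸ Zw)) :=
    { toSMul := instSMul
      one_smul := fun v => by
        have := hsmul 1 v.toMul
        rw [map_one] at this
        refine this.trans ?_
        rw [hconj_ker 1 f.ker.one_mem]; rfl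
      mul_smul := fun a b v => by
        have h1 := hsmul (sec a * sec b) v.toMul
        rw [map_mul, hsec, hsec] at h1
        refine h1.trans ?_
        rw [hconj_mul]; rfl
      smul_zero := fun a => by
        show Additive.ofMul (conjQ (sec a) 1) = 0
        rw [map_one]; rfl
      smul_add := fun a u v => by
        show Additive.ofMul (conjQ (sec a) (u.toMul * v.toMul)) = _
        rw [map_mul]; rfl }
  have hzero := hV (Additive (W ⧸ Zw)) (fun u => by
    obtain ⟨⟨w, hw⟩, hq⟩ := QuotientGroup.mk_surjective u.toMul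
    apply Additive.toMul.injective
    rw [toMul_nsmul, toMul_zero, ← hq, ← QuotientGroup.mk_pow, QuotientGroup.eq_one_iff, hZw,
      Subgroup.mem_subgroupOf]
    simpa using hexp w hw) (by
    intro L hL v hv
    obtain ⟨⟨w, hw⟩, hq⟩ := QuotientGroup.mk_surjective v.toMul
    by_contra hne
    have hwc : w ∉ Z := by
      intro hwZ
      apply hne
      apply Additive.toMul.injective
      rw [toMul_zero, ← hq, QuotientGroup.eq_one_iff, hZw, Subgroup.mem_subgroupOf]
      exact hwZ
    have hLt : ¬ Group.IsSolvable (L.comap f) :=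
      not_isSolvable_of_map f (Subgroup.map_comap_eq_self_of_surjective
        (fun a => ⟨sec a, hsec a⟩) L) hL
    refine not_isSolvable_centralizer hLt (w := w) ?_ (hcent w hwc ?_)
    · intro l hl
      have h1 := hv _ hl
      have h2 := hsmul l v.toMul
      rw [ofMul_toMul, h1, ← hq, hconj_mk] at h2
      have h3 : ((⟨w, hw⟩ : W) : W ⧸ Zw) = ((MulAut.conjNormal l (⟨w, hw⟩ : W) : W) : W ⧸ Zw) := by
        have := congrArg Additive.toMul h2
        rw [toMul_ofMul] at this
        exact hq.trans this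
      have h4 := Subgroup.mem_subgroupOf.mp (QuotientGroup.eq.mp h3.symm)
      have h5 := Z.inv_mem h4
      push_cast [MulAut.conjNormal_apply] at h5
      have h6 : w * (w⁻¹ * (l * w * l⁻¹)) * w⁻¹ ∈ Z := by
        refine (inferInstance : Z.Normal).conj_mem _ ?_ w
        simpa [mul_inv_rev, mul_assoc] using h5
      simpa [mul_assoc] using h6
    · obtain ⟨j, hj⟩ := IsPGroup.iff_orderOf.mp hWp ⟨w, hw⟩
      exact ⟨j, by rwa [Subgroup.orderOf_mk] at hj⟩)
  refine hWc fun w hw => ?_
  have h := hzero (Additive.ofMul ((⟨w, hw⟩ : W) : W ⧸ Zw))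
  have h' := congrArg Additive.toMul h
  rw [toMul_ofMul, toMul_zero, QuotientGroup.eq_one_iff, hZw, Subgroup.mem_subgroupOf] at h'
  exact h'

end H63.AltCentral
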